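import Cfsg.Agent.Spor.G2080.X.D0

set_option autoImplicit false
set_option maxRecDepth 100000000
set_option Elab.async false

namespace Cfsg.Agent.Spor.G2080.X

theorem gr3 : sub M2 (U.growI W1 [1, 1, 1, 1] (Nat.shiftLeft 1 0)) = true := by decide +kernel

theorem sd5 : U.sends [] 0 0 = true := by decide +kernel

theorem gr7 : sub M6 (U.growI W1 [1, 1, 1, 1] (Nat.shiftLeft 1 2)) = true := by decide +kernel

theorem sd9 : U.sends [9, 7] 0 2 = true := by decide +kernel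

theorem gr11 : sub M10 (U.growI W1 [0, 1, 1, 0, 0, 1, 1, 0] (Nat.shiftLeft 1 3)) = true := by decide +kernel

theorem sd13 : U.sends [9, 7, 5] 0 3 = true := by decide +kernel

theorem gr15 : sub M14 (U.growI W1 [0, 1, 1, 0, 0, 1, 1, 0] (Nat.shiftLeft 1 5)) = true := by decide +kernel

theorem sd17 : U.sends [9, 7, 5, 7] 0 5 = true := by decide +kernel

theorem gr19 : sub M18 (U.growI W1 [0, 1, 1, 0, 0, 1, 1, 0] (Nat.shiftLeft 1 8)) = true := by decide +kernel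

theorem sd21 : U.sends [9, 7, 5, 3, 11] 0 8 = true := by decide +kernel

theorem gr23 : sub M22 (U.growI W1 [0, 1, 1, 0, 0, 1, 1, 0] (Nat.shiftLeft 1 9)) = true := by decide +kernel

theorem sd25 : U.sends [9, 7, 5, 7, 9] 0 9 = true := by decide +kernel

theorem gr27 : sub M26 (U.growI W1 [0, 1, 1, 0, 0, 1, 1, 0] (Nat.shiftLeft 1 13)) = true := by decide +kernel

theorem sd29 : U.sends [9, 7, 5, 3, 7, 5] 0 13 = true := by decide +kernel

theorem gr31 : sub M30 (U.growI W1 [0, 1, 1, 0, 0, 1, 1, 0] (Nat.shiftLeft 1 15)) = true := by decide +kernel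

theorem sd33 : U.sends [9, 7, 5, 3, 7, 11] 0 15 = true := by decide +kernel

theorem gr35 : sub M34 (U.growI W1 [0, 1, 1, 0, 0, 1, 1, 0] (Nat.shiftLeft 1 18)) = true := by decide +kernel

theorem sd37 : U.sends [9, 7, 5, 3, 1, 3, 11] 0 18 = true := by decide +kernel

theorem gr39 : sub M38 (U.growI W1 [0, 1, 1, 0, 0, 1, 1, 0] (Nat.shiftLeft 1 24)) = true := by decide +kernel

theorem sd41 : U.sends [9, 7, 5, 3, 7, 5, 9] 0 24 = true := by decide +kernel

theorem gr43 : sub M42 (U.growI W1 [0, 1, 1, 0, 0, 1, 1, 0] (Nat.shiftLeft 1 25)) = true := by decide +kernel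

theorem sd45 : U.sends [9, 7, 5, 3, 7, 5, 11] 0 25 = true := by decide +kernel

theorem gr47 : sub M46 (U.growI W1 [0, 1, 1, 0, 0, 1, 1, 0] (Nat.shiftLeft 1 26)) = true := by decide +kernel

theorem sd49 : U.sends [9, 7, 5, 3, 7, 9, 11] 0 26 = true := by decide +kernel

theorem gr51 : sub M50 (U.growI W1 [0, 1, 1, 0, 0, 1, 1, 0] (Nat.shiftLeft 1 31)) = true := by decide +kernel

theorem sd53 : U.sends [9, 7, 5, 3, 1, 3, 7, 11] 0 31 = true := by decide +kernel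

theorem gr55 : sub M54 (U.growI W1 [0, 1, 1, 0, 0, 1, 1, 0] (Nat.shiftLeft 1 42)) = true := by decide +kernel

theorem sd57 : U.sends [9, 7, 5, 3, 7, 5, 7, 11] 0 42 = true := by decide +kernel

theorem gr59 : sub M58 (U.growI W1 [0, 1, 1, 0, 0, 1, 1, 0] (Nat.shiftLeft 1 44)) = true := by decide +kernel

theorem sd61 : U.sends [9, 7, 5, 3, 7, 5, 9, 11] 0 44 = true := by decide +kernel

theorem gr63 : sub M62 (U.growI W1 [0, 1, 1, 0, 0, 1, 1, 0] (Nat.shiftLeft 1 59)) = true := by decide +kernel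

theorem sd65 : U.sends [9, 7, 5, 3, 1, 7, 5, 3, 11] 0 59 = true := by decide +kernel

theorem gr67 : sub M66 (U.growI W1 [0, 1, 1, 0, 0, 1, 1, 0] (Nat.shiftLeft 1 67)) = true := by decide +kernel

theorem sd69 : U.sends [9, 7, 5, 3, 1, 7, 11, 3, 5] 0 67 = true := by decide +kernel

theorem gr71 : sub M70 (U.growI W1 [0, 1, 1, 0, 0, 1, 1, 0] (Nat.shiftLeft 1 73)) = true := by decide +kernel

theorem sd73 : U.sends [9, 7, 5, 3, 7, 5, 9, 7, 5] 0 73 = true := by decide +kernel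

theorem gr75 : sub M74 (U.growI W1 [0, 1, 1, 0, 0, 1, 1, 0] (Nat.shiftLeft 1 87)) = true := by decide +kernel

theorem sd77 : U.sends [9, 7, 5, 3, 1, 3, 7, 5, 7, 11] 0 87 = true := by decide +kernel

theorem gr79 : sub M78 (U.growI W1 [0, 1, 1, 0, 0, 1, 1, 0] (Nat.shiftLeft 1 88)) = true := by decide +kernel

theorem sd81 : U.sends [9, 7, 5, 3, 1, 3, 7, 5, 9, 7] 0 88 = true := by decide +kernel

theorem gr83 : sub M82 (U.growI W1 [0, 1, 1, 0, 0, 1, 1, 0] (Nat.shiftLeft 1 92)) = true := by decide +kernel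

theorem sd85 : U.sends [9, 7, 5, 3, 1, 3, 7, 11, 3, 5] 0 92 = true := by decide +kernel

theorem gr87 : sub M86 (U.growI W1 [0, 1, 1, 0, 0, 1, 1, 0] (Nat.shiftLeft 1 105)) = true := by decide +kernel

theorem sd89 : U.sends [9, 7, 5, 3, 1, 7, 5, 9, 7, 5] 0 105 = true := by decide +kernel

theorem gr91 : sub M90 (U.growI W1 [0, 1, 1, 0, 0, 1, 1, 0] (Nat.shiftLeft 1 111)) = true := by decide +kernel

theorem sd93 : U.sends [9, 7, 5, 3, 1, 7, 9, 11, 3, 5] 0 111 = true := by decide +kernel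

theorem gr95 : sub M94 (U.growI W1 [0, 1, 1, 0, 0, 1, 1, 0] (Nat.shiftLeft 1 114)) = true := by decide +kernel

theorem sd97 : U.sends [9, 7, 5, 3, 1, 7, 11, 3, 5, 7] 0 114 = true := by decide +kernel

theorem gr99 : sub M98 (U.growI W1 [0, 1, 1, 0, 0, 1, 1, 0] (Nat.shiftLeft 1 122)) = true := by decide +kernel

theorem sd101 : U.sends [9, 7, 5, 3, 7, 5, 9, 7, 5, 11] 0 122 = true := by decide +kernel

theorem gr103 : sub M102 (U.growI W1 [0, 1, 1, 0, 0, 1, 1, 0] (Nat.shiftLeft 1 142)) = true := by decide +kernel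

theorem sd105 : U.sends [9, 7, 5, 3, 1, 3, 7, 5, 9, 7, 5] 0 142 = true := by decide +kernel

theorem gr107 : sub M106 (U.growI W1 [0, 1, 1, 0, 0, 1, 1, 0] (Nat.shiftLeft 1 143)) = true := by decide +kernel

theorem sd109 : U.sends [9, 7, 5, 3, 1, 3, 7, 5, 9, 7, 11] 0 143 = true := by decide +kernel

theorem gr111 : sub M110 (U.growI W1 [0, 1, 1, 0, 0, 1, 1, 0] (Nat.shiftLeft 1 148)) = true := by decide +kernel

theorem sd113 : U.sends [9, 7, 5, 3, 1, 3, 7, 11, 3, 5, 7] 0 148 = true := by decide +kernel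

theorem gr115 : sub M114 (U.growI W1 [0, 1, 1, 0, 0, 1, 1, 0] (Nat.shiftLeft 1 158)) = true := by decide +kernel

theorem sd117 : U.sends [9, 7, 5, 3, 1, 7, 5, 3, 9, 7, 5] 0 158 = true := by decide +kernel

theorem gr119 : sub M118 (U.growI W1 [0, 1, 1, 0, 0, 1, 1, 0] (Nat.shiftLeft 1 162)) = true := by decide +kernel

theorem sd121 : U.sends [9, 7, 5, 3, 1, 7, 5, 3, 11, 3, 5] 0 162 = true := by decide +kernel

theorem gr123 : sub M122 (U.growI W1 [0, 1, 1, 0, 0, 1, 1, 0] (Nat.shiftLeft 1 169)) = true := by decide +kernel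

theorem sd125 : U.sends [9, 7, 5, 3, 1, 7, 5, 9, 7, 5, 11] 0 169 = true := by decide +kernel

theorem gr127 : sub M126 (U.growI W1 [0, 1, 1, 0, 0, 1, 1, 0] (Nat.shiftLeft 1 177)) = true := by decide +kernel

theorem sd129 : U.sends [9, 7, 5, 3, 1, 7, 9, 11, 3, 5, 7] 0 177 = true := by decide +kernel

theorem gr131 : sub M130 (U.growI W1 [0, 1, 1] (Nat.shiftLeft 1 184)) = true := by decide +kernel

theorem sd133 : U.sends [9, 7, 5, 3, 7, 5, 7, 9, 7, 5, 7] 0 184 = true := by decide +kernel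

theorem gr135 : sub M134 (U.growI W1 [0, 1, 1, 0, 0, 1, 1, 0] (Nat.shiftLeft 1 185)) = true := by decide +kernel

theorem sd137 : U.sends [9, 7, 5, 3, 7, 5, 7, 9, 7, 5, 11] 0 185 = true := by decide +kernel

theorem gr139 : sub M138 (U.growI W1 [0, 1, 1, 0, 0, 1, 1, 0] (Nat.shiftLeft 1 190)) = true := by decide +kernel

theorem sd141 : U.sends [9, 7, 5, 3, 7, 5, 9, 7, 5, 3, 11] 0 190 = true := by decide +kernel

theorem gr143 : sub M142 (U.growI W1 [0, 1, 1, 0, 0, 1, 1, 0] (Nat.shiftLeft 1 192)) = true := by decide +kernel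

theorem sd145 : U.sends [9, 7, 5, 3, 7, 5, 9, 7, 11, 3, 5] 0 192 = true := by decide +kernel

theorem gr147 : sub M146 (U.growI W1 [0, 1, 1, 0, 0, 1, 1, 0] (Nat.shiftLeft 1 209)) = true := by decide +kernel

theorem sd149 : U.sends [9, 7, 5, 3, 1, 3, 7, 5, 3, 9, 7, 11] 0 209 = true := by decide +kernel

theorem gr151 : sub M150 (U.growI W1 [0, 1, 1, 0, 0, 1, 1, 0] (Nat.shiftLeft 1 219)) = true := by decide +kernel

theorem sd153 : U.sends [9, 7, 5, 3, 1, 3, 7, 5, 9, 7, 5, 11] 0 219 = true := by decide +kernel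

theorem gr155 : sub M154 (U.growI W1 [0, 1, 1, 0, 0, 1, 1, 0] (Nat.shiftLeft 1 226)) = true := by decide +kernel

theorem sd157 : U.sends [9, 7, 5, 3, 1, 3, 7, 9, 11, 3, 5, 7] 0 226 = true := by decide +kernel

theorem gr159 : sub M158 (U.growI W1 [0, 1, 1] (Nat.shiftLeft 1 239)) = true := by decide +kernel

theorem sd161 : U.sends [9, 7, 5, 3, 1, 7, 5, 3, 9, 7, 5, 7] 0 239 = true := by decide +kernel

theorem gr163 : sub M162 (U.growI W1 [0, 1, 1, 0, 0, 1, 1, 0] (Nat.shiftLeft 1 240)) = true := by decide +kernel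

theorem sd165 : U.sends [9, 7, 5, 3, 1, 7, 5, 3, 9, 7, 5, 11] 0 240 = true := by decide +kernel

theorem gr167 : sub M166 (U.growI W1 [0, 0, 0, 0] (Nat.shiftLeft 1 247)) = true := by decide +kernel

theorem sd169 : U.sends [9, 7, 5, 3, 1, 7, 5, 7, 9, 7, 5, 7] 0 247 = true := by decide +kernel

theorem gr171 : sub M170 (U.growI W1 [0, 1, 1, 0, 0, 1, 1, 0] (Nat.shiftLeft 1 248)) = true := by decide +kernel

theorem sd173 : U.sends [9, 7, 5, 3, 1, 7, 5, 7, 9, 7, 5, 11] 0 248 = true := by decide +kernel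

theorem gr175 : sub M174 (U.growI W1 [0, 1, 1, 0, 0, 1, 1, 0] (Nat.shiftLeft 1 253)) = true := by decide +kernel

theorem sd177 : U.sends [9, 7, 5, 3, 1, 7, 5, 9, 7, 5, 3, 11] 0 253 = true := by decide +kernel

theorem gr179 : sub M178 (U.growI W1 [0, 1, 1, 0, 0, 1, 1, 0] (Nat.shiftLeft 1 256)) = true := by decide +kernel

theorem sd181 : U.sends [9, 7, 5, 3, 1, 7, 5, 9, 7, 11, 3, 5] 0 256 = true := by decide +kernel

theorem gr183 : sub M182 (U.growI W1 [0, 1, 1, 0, 0, 1, 1, 0] (Nat.shiftLeft 1 263)) = true := by decide +kernel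

theorem sd185 : U.sends [9, 7, 5, 3, 1, 7, 9, 11, 3, 5, 7, 5] 0 263 = true := by decide +kernel

theorem gr187 : sub M186 (U.growI W1 [0, 1, 1, 0, 0, 1, 1, 0] (Nat.shiftLeft 1 264)) = true := by decide +kernel

theorem sd189 : U.sends [9, 7, 5, 3, 1, 7, 9, 11, 3, 5, 7, 9] 0 264 = true := by decide +kernel

theorem gr191 : sub M190 (U.growI W1 [0, 1, 1, 0, 0, 1, 1, 0] (Nat.shiftLeft 1 272)) = true := by decide +kernel

theorem sd193 : U.sends [9, 7, 5, 3, 7, 5, 7, 9, 7, 5, 3, 11] 0 272 = true := by decide +kernel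

theorem gr195 : sub M194 (U.growI W1 [0, 1, 1, 0, 0, 1, 1, 0] (Nat.shiftLeft 1 273)) = true := by decide +kernel

theorem sd197 : U.sends [9, 7, 5, 3, 7, 5, 7, 9, 7, 5, 7, 11] 0 273 = true := by decide +kernel

theorem gr199 : sub M198 (U.growI W1 [0, 1, 1, 0, 0, 1, 1, 0] (Nat.shiftLeft 1 279)) = true := by decide +kernel

theorem sd201 : U.sends [9, 7, 5, 3, 7, 5, 9, 7, 5, 3, 1, 11] 0 279 = true := by decide +kernel

theorem gr203 : sub M202 (U.growI W1 [0, 1, 1, 0, 0, 1, 1, 0] (Nat.shiftLeft 1 291)) = true := by decide +kernel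

theorem sd205 : U.sends [9, 7, 5, 3, 1, 3, 1, 7, 5, 9, 7, 5, 11] 0 291 = true := by decide +kernel

theorem gr207 : sub M206 (U.growI W1 [0, 1, 1, 0, 0, 1, 1, 0] (Nat.shiftLeft 1 303)) = true := by decide +kernel

theorem sd209 : U.sends [9, 7, 5, 3, 1, 3, 7, 5, 3, 9, 7, 5, 11] 0 303 = true := by decide +kernel

theorem gr211 : sub M210 (U.growI W1 [0, 1, 1, 0, 0, 1, 1, 0] (Nat.shiftLeft 1 311)) = true := by decide +kernel

theorem sd213 : U.sends [9, 7, 5, 3, 1, 3, 7, 5, 7, 9, 7, 5, 11] 0 311 = true := by decide +kernel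

theorem gr215 : sub M214 (U.growI W1 [0, 1, 1, 0, 0, 1, 1, 0] (Nat.shiftLeft 1 320)) = true := by decide +kernel

theorem sd217 : U.sends [9, 7, 5, 3, 1, 3, 7, 5, 9, 7, 11, 3, 5] 0 320 = true := by decide +kernel

theorem gr219 : sub M218 (U.growI W1 [0, 1, 1, 0, 0, 1, 1, 0] (Nat.shiftLeft 1 326)) = true := by decide +kernel

theorem sd221 : U.sends [9, 7, 5, 3, 1, 3, 7, 9, 11, 3, 5, 7, 5] 0 326 = true := by decide +kernel

theorem gr223 : sub M222 (U.growI W1 [0, 0, 0, 0] (Nat.shiftLeft 1 335)) = true := by decide +kernel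

theorem sd225 : U.sends [9, 7, 5, 3, 1, 7, 5, 3, 1, 9, 7, 5, 7] 0 335 = true := by decide +kernel

theorem gr227 : sub M226 (U.growI W1 [0, 1, 1, 0, 0, 1, 1, 0] (Nat.shiftLeft 1 336)) = true := by decide +kernel

theorem sd229 : U.sends [9, 7, 5, 3, 1, 7, 5, 3, 1, 9, 7, 5, 11] 0 336 = true := by decide +kernel

theorem gr231 : sub M230 (U.growI W1 [0, 1, 1, 0, 0, 1, 1, 0] (Nat.shiftLeft 1 346)) = true := by decide +kernel

theorem sd233 : U.sends [9, 7, 5, 3, 1, 7, 5, 3, 9, 7, 5, 7, 11] 0 346 = true := by decide +kernel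

theorem gr235 : sub M234 (U.growI W1 [0, 1, 1, 0, 0, 1, 1, 0] (Nat.shiftLeft 1 349)) = true := by decide +kernel

theorem sd237 : U.sends [9, 7, 5, 3, 1, 7, 5, 3, 9, 7, 11, 3, 5] 0 349 = true := by decide +kernel

theorem gr239 : sub M238 (U.growI W1 [0, 1, 1, 0, 0, 1, 1, 0] (Nat.shiftLeft 1 351)) = true := by decide +kernel

theorem sd241 : U.sends [9, 7, 5, 3, 1, 7, 5, 3, 9, 11, 3, 5, 7] 0 351 = true := by decide +kernel

theorem gr243 : sub M242 (U.growI W1 [0, 1, 1, 0, 0, 1, 1, 0] (Nat.shiftLeft 1 356)) = true := by decide +kernel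

theorem sd245 : U.sends [9, 7, 5, 3, 1, 7, 5, 7, 9, 7, 5, 3, 11] 0 356 = true := by decide +kernel

theorem gr247 : sub M246 (U.growI W1 [0, 1, 1, 0, 0, 1, 1, 0] (Nat.shiftLeft 1 357)) = true := by decide +kernel

theorem sd249 : U.sends [9, 7, 5, 3, 1, 7, 5, 7, 9, 7, 5, 7, 11] 0 357 = true := by decide +kernel

theorem gr251 : sub M250 (U.growI W1 [0, 1, 1, 0, 0, 1, 1, 0] (Nat.shiftLeft 1 360)) = true := by decide +kernel

theorem sd253 : U.sends [9, 7, 5, 3, 1, 7, 5, 7, 9, 7, 11, 3, 5] 0 360 = true := by decide +kernel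

theorem gr255 : sub M254 (U.growI W1 [0, 1, 1, 0, 0, 1, 1, 0] (Nat.shiftLeft 1 368)) = true := by decide +kernel

theorem sd257 : U.sends [9, 7, 5, 3, 1, 7, 5, 9, 7, 11, 3, 5, 7] 0 368 = true := by decide +kernel

theorem gr259 : sub M258 (U.growI W1 [0, 1, 1, 0, 0, 1, 1, 0] (Nat.shiftLeft 1 375)) = true := by decide +kernel

theorem sd261 : U.sends [9, 7, 5, 3, 1, 7, 9, 11, 3, 1, 5, 7, 5] 0 375 = true := by decide +kernel

theorem gr263 : sub M262 (U.growI W1 [0, 1, 1, 0, 0, 1, 1, 0] (Nat.shiftLeft 1 378)) = true := by decide +kernel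

theorem sd265 : U.sends [9, 7, 5, 3, 1, 7, 9, 11, 3, 5, 7, 5, 9] 0 378 = true := by decide +kernel

theorem gr267 : sub M266 (U.growI W1 [0, 1, 1, 0, 0, 1, 1, 0] (Nat.shiftLeft 1 382)) = true := by decide +kernel

theorem sd269 : U.sends [9, 7, 5, 3, 1, 11, 3, 5, 7, 5, 9, 7, 5] 0 382 = true := by decide +kernel

theorem gr271 : sub M270 (U.growI W1 [0, 1, 1, 0, 0, 1, 1, 0] (Nat.shiftLeft 1 410)) = true := by decide +kernel

theorem sd273 : U.sends [9, 7, 5, 3, 1, 3, 1, 7, 5, 7, 9, 7, 5, 11] 0 410 = true := by decide +kernel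

theorem gr275 : sub M274 (U.growI W1 [0, 1, 1, 0, 0, 1, 1, 0] (Nat.shiftLeft 1 412)) = true := by decide +kernel

theorem sd277 : U.sends [9, 7, 5, 3, 1, 3, 1, 7, 5, 9, 7, 5, 3, 11] 0 412 = true := by decide +kernel

theorem gr279 : sub M278 (U.growI W1 [0, 1, 1, 0, 0, 1, 1, 0] (Nat.shiftLeft 1 431)) = true := by decide +kernel

theorem sd281 : U.sends [9, 7, 5, 3, 1, 3, 7, 5, 3, 9, 7, 11, 3, 5] 0 431 = true := by decide +kernel

theorem gr283 : sub M282 (U.growI W1 [0, 1, 1, 0, 0, 1, 1, 0] (Nat.shiftLeft 1 450)) = true := by decide +kernel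

theorem sd285 : U.sends [9, 7, 5, 3, 1, 3, 7, 5, 9, 7, 5, 11, 3, 5] 0 450 = true := by decide +kernel

theorem gr287 : sub M286 (U.growI W1 [0, 1, 1, 0, 0, 1, 1, 0] (Nat.shiftLeft 1 453)) = true := by decide +kernel

theorem sd289 : U.sends [9, 7, 5, 3, 1, 3, 7, 5, 9, 7, 11, 3, 5, 7] 0 453 = true := by decide +kernel

theorem gr291 : sub M290 (U.growI W1 [0, 1, 1, 0, 0, 1, 1, 0] (Nat.shiftLeft 1 455)) = true := by decide +kernel

theorem sd293 : U.sends [9, 7, 5, 3, 1, 3, 7, 5, 9, 11, 3, 5, 7, 5] 0 455 = true := by decide +kernel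

theorem gr295 : sub M294 (U.growI W1 [0, 1, 1, 0, 0, 1, 1, 0] (Nat.shiftLeft 1 475)) = true := by decide +kernel

theorem sd297 : U.sends [9, 7, 5, 3, 1, 7, 5, 3, 7, 9, 7, 5, 7, 11] 0 475 = true := by decide +kernel

theorem gr299 : sub M298 (U.growI W1 [0, 1, 1, 0, 0, 1, 1, 0] (Nat.shiftLeft 1 477)) = true := by decide +kernel

theorem sd301 : U.sends [9, 7, 5, 3, 1, 7, 5, 3, 7, 9, 7, 11, 3, 5] 0 477 = true := by decide +kernel

theorem gr303 : sub M302 (U.growI W1 [0, 1, 1, 0, 0, 1, 1, 0] (Nat.shiftLeft 1 487)) = true := by decide +kernel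

theorem sd305 : U.sends [9, 7, 5, 3, 1, 7, 5, 3, 9, 7, 5, 11, 3, 5] 0 487 = true := by decide +kernel

theorem gr307 : sub M306 (U.growI W1 [0, 1, 1, 0, 0, 1, 1, 0] (Nat.shiftLeft 1 492)) = true := by decide +kernel

theorem sd309 : U.sends [9, 7, 5, 3, 1, 7, 5, 3, 9, 11, 3, 5, 7, 9] 0 492 = true := by decide +kernel

theorem gr311 : sub M310 (U.growI W1 [0, 1, 1, 0, 0, 1, 1, 0] (Nat.shiftLeft 1 504)) = true := by decide +kernel

theorem sd313 : U.sends [9, 7, 5, 3, 1, 7, 5, 7, 9, 7, 11, 3, 5, 7] 0 504 = true := by decide +kernel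

theorem gr315 : sub M314 (U.growI W1 [0, 1, 1, 0, 0, 1, 1, 0] (Nat.shiftLeft 1 505)) = true := by decide +kernel

theorem sd317 : U.sends [9, 7, 5, 3, 1, 7, 5, 7, 9, 11, 3, 5, 7, 5] 0 505 = true := by decide +kernel

theorem gr319 : sub M318 (U.growI W1 [0, 1, 1, 0, 0, 1, 1, 0] (Nat.shiftLeft 1 530)) = true := by decide +kernel

theorem sd321 : U.sends [9, 7, 5, 3, 1, 7, 9, 11, 3, 5, 7, 5, 3, 11] 0 530 = true := by decide +kernel

theorem gr323 : sub M322 (U.growI W1 [0, 1, 1, 0, 0, 1, 1, 0] (Nat.shiftLeft 1 584)) = true := by decide +kernel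

theorem sd325 : U.sends [9, 7, 5, 3, 1, 3, 1, 7, 5, 9, 7, 5, 3, 1, 11] 0 584 = true := by decide +kernel

theorem gr327 : sub M326 (U.growI W1 [0, 1, 1, 0, 0, 1, 1, 0] (Nat.shiftLeft 1 612)) = true := by decide +kernel

theorem sd329 : U.sends [9, 7, 5, 3, 1, 3, 7, 5, 3, 9, 7, 11, 3, 5, 7] 0 612 = true := by decide +kernel

theorem gr331 : sub M330 (U.growI W1 [0, 1, 1, 0, 0, 1, 1, 0] (Nat.shiftLeft 1 639)) = true := by decide +kernel

theorem sd333 : U.sends [9, 7, 5, 3, 1, 3, 7, 5, 9, 7, 5, 11, 3, 5, 7] 0 639 = true := by decide +kernel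

theorem gr335 : sub M334 (U.growI W1 [0, 1, 1, 0, 0, 1, 1, 0] (Nat.shiftLeft 1 653)) = true := by decide +kernel

theorem sd337 : U.sends [9, 7, 5, 3, 1, 3, 7, 9, 11, 3, 5, 7, 5, 9, 7] 0 653 = true := by decide +kernel

theorem gr339 : sub M338 (U.growI W1 [0, 1, 1, 0, 0, 1, 1, 0] (Nat.shiftLeft 1 662)) = true := by decide +kernel

theorem sd341 : U.sends [9, 7, 5, 3, 1, 7, 5, 3, 1, 7, 9, 7, 5, 7, 11] 0 662 = true := by decide +kernel

theorem gr343 : sub M342 (U.growI W1 [0, 1, 1, 0, 0, 1, 1, 0] (Nat.shiftLeft 1 720)) = true := by decide +kernel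

theorem sd345 : U.sends [9, 7, 5, 3, 1, 7, 5, 7, 9, 7, 11, 3, 5, 7, 9] 0 720 = true := by decide +kernel

theorem gr347 : sub M346 (U.growI W1 [0, 1, 1, 0, 0, 1, 1, 0] (Nat.shiftLeft 1 762)) = true := by decide +kernel

theorem sd349 : U.sends [9, 7, 5, 3, 1, 7, 9, 11, 3, 5, 7, 5, 9, 7, 5] 0 762 = true := by decide +kernel

theorem gr351 : sub M350 (U.growI W1 [0, 1, 1, 0, 0, 1, 1, 0] (Nat.shiftLeft 1 895)) = true := by decide +kernel

theorem sd353 : U.sends [9, 7, 5, 3, 1, 3, 7, 5, 3, 9, 7, 11, 3, 5, 7, 9] 0 895 = true := by decide +kernel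

end Cfsg.Agent.Spor.G2080.X
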