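import Cfsg.Agent.Spor.Prim
import Cfsg.Agent.Spor.G2080.Main
import Cfsg.Agent.Spor.G2080.X.C0
import Cfsg.Agent.Spor.R3E

set_option autoImplicit false
set_option maxRecDepth 100000000
set_option Elab.async false

namespace Cfsg.Agent.Spor.G2080.X

theorem hU : U.Ok 12 := U.ok_of 12 (show AllP (fun n => Net.okb 12 n = true) [n0, n1, n2, n3, n4, n5] from AllP.cons ok0 (AllP.cons ok1 (AllP.cons ok2 (AllP.cons ok3 (AllP.cons ok4 (AllP.cons ok5 (AllP.nil)))))))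

theorem reach4 : Reach (U.lsub W1) 0 M2 := (Reach.grow hU (Reach.base _ 0) gr3)
theorem reach8 : Reach (U.lsub W1) 2 M6 := (Reach.grow hU (Reach.base _ 2) gr7)
theorem reach12 : Reach (U.lsub W1) 3 M10 := (Reach.grow hU (Reach.base _ 3) gr11)
theorem reach16 : Reach (U.lsub W1) 5 M14 := (Reach.grow hU (Reach.base _ 5) gr15)
theorem reach20 : Reach (U.lsub W1) 8 M18 := (Reach.grow hU (Reach.base _ 8) gr19)
theorem reach24 : Reach (U.lsub W1) 9 M22 := (Reach.grow hU (Reach.base _ 9) gr23)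
theorem reach28 : Reach (U.lsub W1) 13 M26 := (Reach.grow hU (Reach.base _ 13) gr27)
theorem reach32 : Reach (U.lsub W1) 15 M30 := (Reach.grow hU (Reach.base _ 15) gr31)
theorem reach36 : Reach (U.lsub W1) 18 M34 := (Reach.grow hU (Reach.base _ 18) gr35)
theorem reach40 : Reach (U.lsub W1) 24 M38 := (Reach.grow hU (Reach.base _ 24) gr39)
theorem reach44 : Reach (U.lsub W1) 25 M42 := (Reach.grow hU (Reach.base _ 25) gr43)
theorem reach48 : Reach (U.lsub W1) 26 M46 := (Reach.grow hU (Reach.base _ 26) gr47)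
theorem reach52 : Reach (U.lsub W1) 31 M50 := (Reach.grow hU (Reach.base _ 31) gr51)
theorem reach56 : Reach (U.lsub W1) 42 M54 := (Reach.grow hU (Reach.base _ 42) gr55)
theorem reach60 : Reach (U.lsub W1) 44 M58 := (Reach.grow hU (Reach.base _ 44) gr59)
theorem reach64 : Reach (U.lsub W1) 59 M62 := (Reach.grow hU (Reach.base _ 59) gr63)
theorem reach68 : Reach (U.lsub W1) 67 M66 := (Reach.grow hU (Reach.base _ 67) gr67)
theorem reach72 : Reach (U.lsub W1) 73 M70 := (Reach.grow hU (Reach.base _ 73) gr71)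
theorem reach76 : Reach (U.lsub W1) 87 M74 := (Reach.grow hU (Reach.base _ 87) gr75)
theorem reach80 : Reach (U.lsub W1) 88 M78 := (Reach.grow hU (Reach.base _ 88) gr79)
theorem reach84 : Reach (U.lsub W1) 92 M82 := (Reach.grow hU (Reach.base _ 92) gr83)
theorem reach88 : Reach (U.lsub W1) 105 M86 := (Reach.grow hU (Reach.base _ 105) gr87)
theorem reach92 : Reach (U.lsub W1) 111 M90 := (Reach.grow hU (Reach.base _ 111) gr91)
theorem reach96 : Reach (U.lsub W1) 114 M94 := (Reach.grow hU (Reach.base _ 114) gr95)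
theorem reach100 : Reach (U.lsub W1) 122 M98 := (Reach.grow hU (Reach.base _ 122) gr99)
theorem reach104 : Reach (U.lsub W1) 142 M102 := (Reach.grow hU (Reach.base _ 142) gr103)
theorem reach108 : Reach (U.lsub W1) 143 M106 := (Reach.grow hU (Reach.base _ 143) gr107)
theorem reach112 : Reach (U.lsub W1) 148 M110 := (Reach.grow hU (Reach.base _ 148) gr111)
theorem reach116 : Reach (U.lsub W1) 158 M114 := (Reach.grow hU (Reach.base _ 158) gr115)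
theorem reach120 : Reach (U.lsub W1) 162 M118 := (Reach.grow hU (Reach.base _ 162) gr119)
theorem reach124 : Reach (U.lsub W1) 169 M122 := (Reach.grow hU (Reach.base _ 169) gr123)
theorem reach128 : Reach (U.lsub W1) 177 M126 := (Reach.grow hU (Reach.base _ 177) gr127)
theorem reach132 : Reach (U.lsub W1) 184 M130 := (Reach.grow hU (Reach.base _ 184) gr131)
theorem reach136 : Reach (U.lsub W1) 185 M134 := (Reach.grow hU (Reach.base _ 185) gr135)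
theorem reach140 : Reach (U.lsub W1) 190 M138 := (Reach.grow hU (Reach.base _ 190) gr139)
theorem reach144 : Reach (U.lsub W1) 192 M142 := (Reach.grow hU (Reach.base _ 192) gr143)
theorem reach148 : Reach (U.lsub W1) 209 M146 := (Reach.grow hU (Reach.base _ 209) gr147)
theorem reach152 : Reach (U.lsub W1) 219 M150 := (Reach.grow hU (Reach.base _ 219) gr151)
theorem reach156 : Reach (U.lsub W1) 226 M154 := (Reach.grow hU (Reach.base _ 226) gr155)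
theorem reach160 : Reach (U.lsub W1) 239 M158 := (Reach.grow hU (Reach.base _ 239) gr159)
theorem reach164 : Reach (U.lsub W1) 240 M162 := (Reach.grow hU (Reach.base _ 240) gr163)
theorem reach168 : Reach (U.lsub W1) 247 M166 := (Reach.grow hU (Reach.base _ 247) gr167)
theorem reach172 : Reach (U.lsub W1) 248 M170 := (Reach.grow hU (Reach.base _ 248) gr171)
theorem reach176 : Reach (U.lsub W1) 253 M174 := (Reach.grow hU (Reach.base _ 253) gr175)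
theorem reach180 : Reach (U.lsub W1) 256 M178 := (Reach.grow hU (Reach.base _ 256) gr179)
theorem reach184 : Reach (U.lsub W1) 263 M182 := (Reach.grow hU (Reach.base _ 263) gr183)
theorem reach188 : Reach (U.lsub W1) 264 M186 := (Reach.grow hU (Reach.base _ 264) gr187)
theorem reach192 : Reach (U.lsub W1) 272 M190 := (Reach.grow hU (Reach.base _ 272) gr191)
theorem reach196 : Reach (U.lsub W1) 273 M194 := (Reach.grow hU (Reach.base _ 273) gr195)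
theorem reach200 : Reach (U.lsub W1) 279 M198 := (Reach.grow hU (Reach.base _ 279) gr199)
theorem reach204 : Reach (U.lsub W1) 291 M202 := (Reach.grow hU (Reach.base _ 291) gr203)
theorem reach208 : Reach (U.lsub W1) 303 M206 := (Reach.grow hU (Reach.base _ 303) gr207)
theorem reach212 : Reach (U.lsub W1) 311 M210 := (Reach.grow hU (Reach.base _ 311) gr211)
theorem reach216 : Reach (U.lsub W1) 320 M214 := (Reach.grow hU (Reach.base _ 320) gr215)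
theorem reach220 : Reach (U.lsub W1) 326 M218 := (Reach.grow hU (Reach.base _ 326) gr219)
theorem reach224 : Reach (U.lsub W1) 335 M222 := (Reach.grow hU (Reach.base _ 335) gr223)
theorem reach228 : Reach (U.lsub W1) 336 M226 := (Reach.grow hU (Reach.base _ 336) gr227)
theorem reach232 : Reach (U.lsub W1) 346 M230 := (Reach.grow hU (Reach.base _ 346) gr231)
theorem reach236 : Reach (U.lsub W1) 349 M234 := (Reach.grow hU (Reach.base _ 349) gr235)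
theorem reach240 : Reach (U.lsub W1) 351 M238 := (Reach.grow hU (Reach.base _ 351) gr239)
theorem reach244 : Reach (U.lsub W1) 356 M242 := (Reach.grow hU (Reach.base _ 356) gr243)
theorem reach248 : Reach (U.lsub W1) 357 M246 := (Reach.grow hU (Reach.base _ 357) gr247)
theorem reach252 : Reach (U.lsub W1) 360 M250 := (Reach.grow hU (Reach.base _ 360) gr251)
theorem reach256 : Reach (U.lsub W1) 368 M254 := (Reach.grow hU (Reach.base _ 368) gr255)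
theorem reach260 : Reach (U.lsub W1) 375 M258 := (Reach.grow hU (Reach.base _ 375) gr259)
theorem reach264 : Reach (U.lsub W1) 378 M262 := (Reach.grow hU (Reach.base _ 378) gr263)
theorem reach268 : Reach (U.lsub W1) 382 M266 := (Reach.grow hU (Reach.base _ 382) gr267)
theorem reach272 : Reach (U.lsub W1) 410 M270 := (Reach.grow hU (Reach.base _ 410) gr271)
theorem reach276 : Reach (U.lsub W1) 412 M274 := (Reach.grow hU (Reach.base _ 412) gr275)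
theorem reach280 : Reach (U.lsub W1) 431 M278 := (Reach.grow hU (Reach.base _ 431) gr279)
theorem reach284 : Reach (U.lsub W1) 450 M282 := (Reach.grow hU (Reach.base _ 450) gr283)
theorem reach288 : Reach (U.lsub W1) 453 M286 := (Reach.grow hU (Reach.base _ 453) gr287)
theorem reach292 : Reach (U.lsub W1) 455 M290 := (Reach.grow hU (Reach.base _ 455) gr291)
theorem reach296 : Reach (U.lsub W1) 475 M294 := (Reach.grow hU (Reach.base _ 475) gr295)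
theorem reach300 : Reach (U.lsub W1) 477 M298 := (Reach.grow hU (Reach.base _ 477) gr299)
theorem reach304 : Reach (U.lsub W1) 487 M302 := (Reach.grow hU (Reach.base _ 487) gr303)
theorem reach308 : Reach (U.lsub W1) 492 M306 := (Reach.grow hU (Reach.base _ 492) gr307)
theorem reach312 : Reach (U.lsub W1) 504 M310 := (Reach.grow hU (Reach.base _ 504) gr311)
theorem reach316 : Reach (U.lsub W1) 505 M314 := (Reach.grow hU (Reach.base _ 505) gr315)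
theorem reach320 : Reach (U.lsub W1) 530 M318 := (Reach.grow hU (Reach.base _ 530) gr319)
theorem reach324 : Reach (U.lsub W1) 584 M322 := (Reach.grow hU (Reach.base _ 584) gr323)
theorem reach328 : Reach (U.lsub W1) 612 M326 := (Reach.grow hU (Reach.base _ 612) gr327)
theorem reach332 : Reach (U.lsub W1) 639 M330 := (Reach.grow hU (Reach.base _ 639) gr331)
theorem reach336 : Reach (U.lsub W1) 653 M334 := (Reach.grow hU (Reach.base _ 653) gr335)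
theorem reach340 : Reach (U.lsub W1) 662 M338 := (Reach.grow hU (Reach.base _ 662) gr339)
theorem reach344 : Reach (U.lsub W1) 720 M342 := (Reach.grow hU (Reach.base _ 720) gr343)
theorem reach348 : Reach (U.lsub W1) 762 M346 := (Reach.grow hU (Reach.base _ 762) gr347)
theorem reach352 : Reach (U.lsub W1) 895 M350 := (Reach.grow hU (Reach.base _ 895) gr351)
noncomputable def X : List SubO := [([], 0, M2), ([6, 8], 2, M6), ([4, 6, 8], 3, M10), ([6, 4, 6, 8], 5, M14), ([10, 2, 4, 6, 8], 8, M18), ([8, 6, 4, 6, 8], 9, M22), ([4, 6, 2, 4, 6, 8], 13, M26), ([10, 6, 2, 4, 6, 8], 15, M30), ([10, 2, 0, 2, 4, 6, 8], 18, M34), ([8, 4, 6, 2, 4, 6, 8], 24, M38), ([10, 4, 6, 2, 4, 6, 8], 25, M42), ([10, 8, 6, 2, 4, 6, 8], 26, M46), ([10, 6, 2, 0, 2, 4, 6, 8], 31, M50), ([10, 6, 4, 6, 2, 4, 6, 8], 42, M54), ([10, 8, 4, 6, 2, 4, 6, 8], 44, M58), ([10, 2, 4, 6, 0, 2, 4, 6, 8], 59, M62), ([4, 2, 10,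 6, 0, 2, 4, 6, 8], 67, M66), ([4, 6, 8, 4, 6, 2, 4, 6, 8], 73, M70), ([10, 6, 4, 6, 2, 0, 2, 4, 6, 8], 87, M74), ([6, 8, 4, 6, 2, 0, 2, 4, 6, 8], 88, M78), ([4, 2, 10, 6, 2, 0, 2, 4, 6, 8], 92, M82), ([4, 6, 8, 4, 6, 0, 2, 4, 6, 8], 105, M86), ([4, 2, 10, 8, 6, 0, 2, 4, 6, 8], 111, M90), ([6, 4, 2, 10, 6, 0, 2, 4, 6, 8], 114, M94), ([10, 4, 6, 8, 4, 6, 2, 4, 6, 8], 122, M98), ([4, 6, 8, 4, 6, 2, 0, 2, 4, 6, 8], 142, M102), ([10, 6, 8, 4, 6, 2, 0, 2, 4, 6, 8], 143, M106), ([6, 4, 2, 10, 6, 2, 0, 2, 4, 6, 8], 148, M110), ([4, 6, 8, 2, 4, 6, 0, 2, 4, 6, 8], 158, M114), ([4, 2, 10, 2, 4, 6, 0, 2, 4, 6, 8], 162, M118), ([10, 4, 6, 8, 4, 6, 0, 2, 4, 6, 8], 169, M122), ([6, 4, 2, 10, 8, 6, 0, 2, 4, 6, 8], 177, M126), ([6, 4, 6, 8, 6, 4, 6, 2, 4, 6, 8], 184, M130), ([10, 4, 6, 8, 6, 4, 6, 2, 4, 6, 8], 185, M134), ([10, 2, 4, 6, 8, 4, 6, 2, 4, 6, 8], 190, M138), ([4, 2, 10, 6, 8, 4, 6, 2,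 4, 6, 8], 192, M142), ([10, 6, 8, 2, 4, 6, 2, 0, 2, 4, 6, 8], 209, M146), ([10, 4, 6, 8, 4, 6, 2, 0, 2, 4, 6, 8], 219, M150), ([6, 4, 2, 10, 8, 6, 2, 0, 2, 4, 6, 8], 226, M154), ([6, 4, 6, 8, 2, 4, 6, 0, 2, 4, 6, 8], 239, M158), ([10, 4, 6, 8, 2, 4, 6, 0, 2, 4, 6, 8], 240, M162), ([6, 4, 6, 8, 6, 4, 6, 0, 2, 4, 6, 8], 247, M166), ([10, 4, 6, 8, 6, 4, 6, 0, 2, 4, 6, 8], 248, M170), ([10, 2, 4, 6, 8, 4, 6, 0, 2, 4, 6, 8], 253, M174), ([4, 2, 10, 6, 8, 4, 6, 0, 2, 4, 6, 8], 256, M178), ([4, 6, 4, 2, 10, 8, 6, 0, 2, 4, 6, 8], 263, M182), ([8, 6, 4, 2, 10, 8, 6, 0, 2, 4, 6, 8], 264, M186), ([10, 2, 4, 6, 8, 6, 4, 6, 2, 4, 6, 8], 272, M190), ([10, 6, 4, 6, 8, 6, 4, 6, 2, 4, 6, 8], 273, M194), ([10, 0, 2, 4, 6, 8, 4, 6, 2, 4, 6, 8], 279, M198), ([10, 4, 6, 8, 4, 6, 0, 2, 0, 2, 4, 6, 8], 291, M202), ([10, 4, 6, 8, 2, 4, 6, 2, 0, 2, 4, 6, 8], 303, M206), ([10, 4, 6, 8, 6, 4, 6, 2, 0, 2, 4,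 6, 8], 311, M210), ([4, 2, 10, 6, 8, 4, 6, 2, 0, 2, 4, 6, 8], 320, M214), ([4, 6, 4, 2, 10, 8, 6, 2, 0, 2, 4, 6, 8], 326, M218), ([6, 4, 6, 8, 0, 2, 4, 6, 0, 2, 4, 6, 8], 335, M222), ([10, 4, 6, 8, 0, 2, 4, 6, 0, 2, 4, 6, 8], 336, M226), ([10, 6, 4, 6, 8, 2, 4, 6, 0, 2, 4, 6, 8], 346, M230), ([4, 2, 10, 6, 8, 2, 4, 6, 0, 2, 4, 6, 8], 349, M234), ([6, 4, 2, 10, 8, 2, 4, 6, 0, 2, 4, 6, 8], 351, M238), ([10, 2, 4, 6, 8, 6, 4, 6, 0, 2, 4, 6, 8], 356, M242), ([10, 6, 4, 6, 8, 6, 4, 6, 0, 2, 4, 6, 8], 357, M246), ([4, 2, 10, 6, 8, 6, 4, 6, 0, 2, 4, 6, 8], 360, M250), ([6, 4, 2, 10, 6, 8, 4, 6, 0, 2, 4, 6, 8], 368, M254), ([4, 6, 4, 0, 2, 10, 8, 6, 0, 2, 4, 6, 8], 375, M258), ([8, 4, 6, 4, 2, 10, 8, 6, 0, 2, 4, 6, 8], 378, M262), ([4, 6, 8, 4, 6, 4, 2, 10, 0, 2, 4, 6, 8], 382, M266), ([10, 4, 6, 8, 6, 4, 6, 0, 2, 0, 2, 4, 6, 8], 410, M270), ([10, 2, 4, 6, 8, 4, 6, 0, 2, 0, 2, 4, 6, 8], 412,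 M274), ([4, 2, 10, 6, 8, 2, 4, 6, 2, 0, 2, 4, 6, 8], 431, M278), ([4, 2, 10, 4, 6, 8, 4, 6, 2, 0, 2, 4, 6, 8], 450, M282), ([6, 4, 2, 10, 6, 8, 4, 6, 2, 0, 2, 4, 6, 8], 453, M286), ([4, 6, 4, 2, 10, 8, 4, 6, 2, 0, 2, 4, 6, 8], 455, M290), ([10, 6, 4, 6, 8, 6, 2, 4, 6, 0, 2, 4, 6, 8], 475, M294), ([4, 2, 10, 6, 8, 6, 2, 4, 6, 0, 2, 4, 6, 8], 477, M298), ([4, 2, 10, 4, 6, 8, 2, 4, 6, 0, 2, 4, 6, 8], 487, M302), ([8, 6, 4, 2, 10, 8, 2, 4, 6, 0, 2, 4, 6, 8], 492, M306), ([6, 4, 2, 10, 6, 8, 6, 4, 6, 0, 2, 4, 6, 8], 504, M310), ([4, 6, 4, 2, 10, 8, 6, 4, 6, 0, 2, 4, 6, 8], 505, M314), ([10, 2, 4, 6, 4, 2, 10, 8, 6, 0, 2, 4, 6, 8], 530, M318), ([10, 0, 2, 4, 6, 8, 4, 6, 0, 2, 0, 2, 4, 6, 8], 584, M322), ([6, 4, 2, 10, 6, 8, 2, 4, 6, 2, 0, 2, 4, 6, 8], 612, M326), ([6, 4, 2, 10, 4, 6, 8, 4, 6, 2, 0, 2, 4, 6, 8], 639, M330), ([6, 8, 4, 6, 4, 2, 10, 8, 6, 2, 0, 2, 4, 6, 8], 653, M334), ([10,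 6, 4, 6, 8, 6, 0, 2, 4, 6, 0, 2, 4, 6, 8], 662, M338), ([8, 6, 4, 2, 10, 6, 8, 6, 4, 6, 0, 2, 4, 6, 8], 720, M342), ([4, 6, 8, 4, 6, 4, 2, 10, 8, 6, 0, 2, 4, 6, 8], 762, M346), ([8, 6, 4, 2, 10, 6, 8, 2, 4, 6, 2, 0, 2, 4, 6, 8], 895, M350)]
theorem hX : AllP (fun x : SubO => lall (fun y => Nat.blt y 12) x.1 = true ∧ evA U.τ (toL x.1) 0 = x.2.1 ∧ Reach (U.lsub W1) x.2.1 x.2.2 ∧ x.1 ∈ WL) X :=
  show AllP _ [([], 0, M2), ([6, 8], 2, M6), ([4, 6, 8], 3, M10), ([6, 4, 6, 8], 5, M14), ([10, 2, 4, 6, 8], 8, M18), ([8, 6, 4, 6, 8], 9, M22), ([4, 6, 2, 4, 6, 8], 13, M26), ([10, 6, 2, 4, 6, 8], 15, M30), ([10, 2, 0, 2, 4, 6, 8], 18, M34), ([8, 4, 6, 2, 4, 6, 8], 24, M38), ([10, 4, 6, 2, 4, 6, 8], 25, M42), ([10, 8, 6, 2, 4, 6, 8], 26, M46), ([10, 6, 2, 0, 2, 4, 6, 8], 31, M50), ([10, 6, 4, 6, 2, 4, 6, 8], 42, M54), ([10, 8, 4, 6, 2, 4, 6, 8], 44, M58), ([10, 2, 4, 6, 0, 2, 4, 6, 8], 59, M62),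 ([4, 2, 10, 6, 0, 2, 4, 6, 8], 67, M66), ([4, 6, 8, 4, 6, 2, 4, 6, 8], 73, M70), ([10, 6, 4, 6, 2, 0, 2, 4, 6, 8], 87, M74), ([6, 8, 4, 6, 2, 0, 2, 4, 6, 8], 88, M78), ([4, 2, 10, 6, 2, 0, 2, 4, 6, 8], 92, M82), ([4, 6, 8, 4, 6, 0, 2, 4, 6, 8], 105, M86), ([4, 2, 10, 8, 6, 0, 2, 4, 6, 8], 111, M90), ([6, 4, 2, 10, 6, 0, 2, 4, 6, 8], 114, M94), ([10, 4, 6, 8, 4, 6, 2, 4, 6, 8], 122, M98), ([4, 6, 8, 4, 6, 2, 0, 2, 4, 6, 8], 142, M102), ([10, 6, 8, 4, 6, 2, 0, 2, 4, 6, 8], 143, M106), ([6, 4, 2, 10, 6, 2, 0, 2, 4, 6, 8], 148, M110), ([4, 6, 8, 2, 4, 6, 0, 2, 4, 6, 8], 158, M114), ([4, 2, 10, 2, 4, 6, 0, 2, 4, 6, 8], 162, M118), ([10, 4, 6, 8, 4, 6, 0, 2, 4, 6, 8], 169, M122), ([6, 4, 2, 10, 8, 6, 0, 2, 4, 6, 8], 177, M126), ([6, 4, 6, 8, 6, 4, 6, 2, 4, 6, 8], 184, M130), ([10, 4, 6, 8, 6, 4, 6, 2, 4, 6, 8], 185, M134), ([10, 2, 4, 6, 8, 4, 6, 2, 4, 6, 8], 190, M138), ([4, 2, 10, 6,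 8, 4, 6, 2, 4, 6, 8], 192, M142), ([10, 6, 8, 2, 4, 6, 2, 0, 2, 4, 6, 8], 209, M146), ([10, 4, 6, 8, 4, 6, 2, 0, 2, 4, 6, 8], 219, M150), ([6, 4, 2, 10, 8, 6, 2, 0, 2, 4, 6, 8], 226, M154), ([6, 4, 6, 8, 2, 4, 6, 0, 2, 4, 6, 8], 239, M158), ([10, 4, 6, 8, 2, 4, 6, 0, 2, 4, 6, 8], 240, M162), ([6, 4, 6, 8, 6, 4, 6, 0, 2, 4, 6, 8], 247, M166), ([10, 4, 6, 8, 6, 4, 6, 0, 2, 4, 6, 8], 248, M170), ([10, 2, 4, 6, 8, 4, 6, 0, 2, 4, 6, 8], 253, M174), ([4, 2, 10, 6, 8, 4, 6, 0, 2, 4, 6, 8], 256, M178), ([4, 6, 4, 2, 10, 8, 6, 0, 2, 4, 6, 8], 263, M182), ([8, 6, 4, 2, 10, 8, 6, 0, 2, 4, 6, 8], 264, M186), ([10, 2, 4, 6, 8, 6, 4, 6, 2, 4, 6, 8], 272, M190), ([10, 6, 4, 6, 8, 6, 4, 6, 2, 4, 6, 8], 273, M194), ([10, 0, 2, 4, 6, 8, 4, 6, 2, 4, 6, 8], 279, M198), ([10, 4, 6, 8, 4, 6, 0, 2, 0, 2, 4, 6, 8], 291, M202), ([10, 4, 6, 8, 2, 4, 6, 2, 0, 2, 4, 6, 8], 303, M206), ([10, 4, 6, 8, 6, 4, 6,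 2, 0, 2, 4, 6, 8], 311, M210), ([4, 2, 10, 6, 8, 4, 6, 2, 0, 2, 4, 6, 8], 320, M214), ([4, 6, 4, 2, 10, 8, 6, 2, 0, 2, 4, 6, 8], 326, M218), ([6, 4, 6, 8, 0, 2, 4, 6, 0, 2, 4, 6, 8], 335, M222), ([10, 4, 6, 8, 0, 2, 4, 6, 0, 2, 4, 6, 8], 336, M226), ([10, 6, 4, 6, 8, 2, 4, 6, 0, 2, 4, 6, 8], 346, M230), ([4, 2, 10, 6, 8, 2, 4, 6, 0, 2, 4, 6, 8], 349, M234), ([6, 4, 2, 10, 8, 2, 4, 6, 0, 2, 4, 6, 8], 351, M238), ([10, 2, 4, 6, 8, 6, 4, 6, 0, 2, 4, 6, 8], 356, M242), ([10, 6, 4, 6, 8, 6, 4, 6, 0, 2, 4, 6, 8], 357, M246), ([4, 2, 10, 6, 8, 6, 4, 6, 0, 2, 4, 6, 8], 360, M250), ([6, 4, 2, 10, 6, 8, 4, 6, 0, 2, 4, 6, 8], 368, M254), ([4, 6, 4, 0, 2, 10, 8, 6, 0, 2, 4, 6, 8], 375, M258), ([8, 4, 6, 4, 2, 10, 8, 6, 0, 2, 4, 6, 8], 378, M262), ([4, 6, 8, 4, 6, 4, 2, 10, 0, 2, 4, 6, 8], 382, M266), ([10, 4, 6, 8, 6, 4, 6, 0, 2, 0, 2, 4, 6, 8], 410, M270), ([10, 2, 4, 6, 8, 4, 6, 0, 2, 0, 2,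 4, 6, 8], 412, M274), ([4, 2, 10, 6, 8, 2, 4, 6, 2, 0, 2, 4, 6, 8], 431, M278), ([4, 2, 10, 4, 6, 8, 4, 6, 2, 0, 2, 4, 6, 8], 450, M282), ([6, 4, 2, 10, 6, 8, 4, 6, 2, 0, 2, 4, 6, 8], 453, M286), ([4, 6, 4, 2, 10, 8, 4, 6, 2, 0, 2, 4, 6, 8], 455, M290), ([10, 6, 4, 6, 8, 6, 2, 4, 6, 0, 2, 4, 6, 8], 475, M294), ([4, 2, 10, 6, 8, 6, 2, 4, 6, 0, 2, 4, 6, 8], 477, M298), ([4, 2, 10, 4, 6, 8, 2, 4, 6, 0, 2, 4, 6, 8], 487, M302), ([8, 6, 4, 2, 10, 8, 2, 4, 6, 0, 2, 4, 6, 8], 492, M306), ([6, 4, 2, 10, 6, 8, 6, 4, 6, 0, 2, 4, 6, 8], 504, M310), ([4, 6, 4, 2, 10, 8, 6, 4, 6, 0, 2, 4, 6, 8], 505, M314), ([10, 2, 4, 6, 4, 2, 10, 8, 6, 0, 2, 4, 6, 8], 530, M318), ([10, 0, 2, 4, 6, 8, 4, 6, 0, 2, 0, 2, 4, 6, 8], 584, M322), ([6, 4, 2, 10, 6, 8, 2, 4, 6, 2, 0, 2, 4, 6, 8], 612, M326), ([6, 4, 2, 10, 4, 6, 8, 4, 6, 2, 0, 2, 4, 6, 8], 639, M330), ([6, 8, 4, 6, 4, 2, 10, 8, 6, 2, 0, 2, 4, 6, 8],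 653, M334), ([10, 6, 4, 6, 8, 6, 0, 2, 4, 6, 0, 2, 4, 6, 8], 662, M338), ([8, 6, 4, 2, 10, 6, 8, 6, 4, 6, 0, 2, 4, 6, 8], 720, M342), ([4, 6, 8, 4, 6, 4, 2, 10, 8, 6, 0, 2, 4, 6, 8], 762, M346), ([8, 6, 4, 2, 10, 6, 8, 2, 4, 6, 2, 0, 2, 4, 6, 8], 895, M350)] from AllP.cons ⟨by decide +kernel, (hU.sends sd5), reach4, by decide +kernel⟩ (AllP.cons ⟨by decide +kernel, (hU.sends sd9), reach8, by decide +kernel⟩ (AllP.cons ⟨by decide +kernel, (hU.sends sd13), reach12, by decide +kernel⟩ (AllP.cons ⟨by decide +kernel, (hU.sends sd17), reach16, by decide +kernel⟩ (AllP.cons ⟨by decide +kernel, (hU.sends sd21), reach20, by decide +kernel⟩ (AllP.cons ⟨by decide +kernel, (hU.sends sd25), reach24, by decide +kernel⟩ (AllP.cons ⟨by decide +kernel, (hU.sends sd29), reach28, by decide +kernel⟩ (AllP.cons ⟨by decide +kernel, (hU.sends sd33), reach32, by decide +kernel⟩ (AllP.cons ⟨by decide +kernel,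 (hU.sends sd37), reach36, by decide +kernel⟩ (AllP.cons ⟨by decide +kernel, (hU.sends sd41), reach40, by decide +kernel⟩ (AllP.cons ⟨by decide +kernel, (hU.sends sd45), reach44, by decide +kernel⟩ (AllP.cons ⟨by decide +kernel, (hU.sends sd49), reach48, by decide +kernel⟩ (AllP.cons ⟨by decide +kernel, (hU.sends sd53), reach52, by decide +kernel⟩ (AllP.cons ⟨by decide +kernel, (hU.sends sd57), reach56, by decide +kernel⟩ (AllP.cons ⟨by decide +kernel, (hU.sends sd61), reach60, by decide +kernel⟩ (AllP.cons ⟨by decide +kernel, (hU.sends sd65), reach64, by decide +kernel⟩ (AllP.cons ⟨by decide +kernel, (hU.sends sd69), reach68, by decide +kernel⟩ (AllP.cons ⟨by decide +kernel, (hU.sends sd73), reach72, by decide +kernel⟩ (AllP.cons ⟨by decide +kernel, (hU.sends sd77), reach76, by decide +kernel⟩ (AllP.cons ⟨by decide +kernel, (hU.sends sd81), reach80, by decide +kernel⟩ (AllP.cons ⟨by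 decide +kernel, (hU.sends sd85), reach84, by decide +kernel⟩ (AllP.cons ⟨by decide +kernel, (hU.sends sd89), reach88, by decide +kernel⟩ (AllP.cons ⟨by decide +kernel, (hU.sends sd93), reach92, by decide +kernel⟩ (AllP.cons ⟨by decide +kernel, (hU.sends sd97), reach96, by decide +kernel⟩ (AllP.cons ⟨by decide +kernel, (hU.sends sd101), reach100, by decide +kernel⟩ (AllP.cons ⟨by decide +kernel, (hU.sends sd105), reach104, by decide +kernel⟩ (AllP.cons ⟨by decide +kernel, (hU.sends sd109), reach108, by decide +kernel⟩ (AllP.cons ⟨by decide +kernel, (hU.sends sd113), reach112, by decide +kernel⟩ (AllP.cons ⟨by decide +kernel, (hU.sends sd117), reach116, by decide +kernel⟩ (AllP.cons ⟨by decide +kernel, (hU.sends sd121), reach120, by decide +kernel⟩ (AllP.cons ⟨by decide +kernel, (hU.sends sd125), reach124, by decide +kernel⟩ (AllP.cons ⟨by decide +kernel, (hU.sends sd129), reach128,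 by decide +kernel⟩ (AllP.cons ⟨by decide +kernel, (hU.sends sd133), reach132, by decide +kernel⟩ (AllP.cons ⟨by decide +kernel, (hU.sends sd137), reach136, by decide +kernel⟩ (AllP.cons ⟨by decide +kernel, (hU.sends sd141), reach140, by decide +kernel⟩ (AllP.cons ⟨by decide +kernel, (hU.sends sd145), reach144, by decide +kernel⟩ (AllP.cons ⟨by decide +kernel, (hU.sends sd149), reach148, by decide +kernel⟩ (AllP.cons ⟨by decide +kernel, (hU.sends sd153), reach152, by decide +kernel⟩ (AllP.cons ⟨by decide +kernel, (hU.sends sd157), reach156, by decide +kernel⟩ (AllP.cons ⟨by decide +kernel, (hU.sends sd161), reach160, by decide +kernel⟩ (AllP.cons ⟨by decide +kernel, (hU.sends sd165), reach164, by decide +kernel⟩ (AllP.cons ⟨by decide +kernel, (hU.sends sd169), reach168, by decide +kernel⟩ (AllP.cons ⟨by decide +kernel, (hU.sends sd173), reach172, by decide +kernel⟩ (AllP.cons ⟨by decide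 +kernel, (hU.sends sd177), reach176, by decide +kernel⟩ (AllP.cons ⟨by decide +kernel, (hU.sends sd181), reach180, by decide +kernel⟩ (AllP.cons ⟨by decide +kernel, (hU.sends sd185), reach184, by decide +kernel⟩ (AllP.cons ⟨by decide +kernel, (hU.sends sd189), reach188, by decide +kernel⟩ (AllP.cons ⟨by decide +kernel, (hU.sends sd193), reach192, by decide +kernel⟩ (AllP.cons ⟨by decide +kernel, (hU.sends sd197), reach196, by decide +kernel⟩ (AllP.cons ⟨by decide +kernel, (hU.sends sd201), reach200, by decide +kernel⟩ (AllP.cons ⟨by decide +kernel, (hU.sends sd205), reach204, by decide +kernel⟩ (AllP.cons ⟨by decide +kernel, (hU.sends sd209), reach208, by decide +kernel⟩ (AllP.cons ⟨by decide +kernel, (hU.sends sd213), reach212, by decide +kernel⟩ (AllP.cons ⟨by decide +kernel, (hU.sends sd217), reach216, by decide +kernel⟩ (AllP.cons ⟨by decide +kernel, (hU.sends sd221), reach220,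 by decide +kernel⟩ (AllP.cons ⟨by decide +kernel, (hU.sends sd225), reach224, by decide +kernel⟩ (AllP.cons ⟨by decide +kernel, (hU.sends sd229), reach228, by decide +kernel⟩ (AllP.cons ⟨by decide +kernel, (hU.sends sd233), reach232, by decide +kernel⟩ (AllP.cons ⟨by decide +kernel, (hU.sends sd237), reach236, by decide +kernel⟩ (AllP.cons ⟨by decide +kernel, (hU.sends sd241), reach240, by decide +kernel⟩ (AllP.cons ⟨by decide +kernel, (hU.sends sd245), reach244, by decide +kernel⟩ (AllP.cons ⟨by decide +kernel, (hU.sends sd249), reach248, by decide +kernel⟩ (AllP.cons ⟨by decide +kernel, (hU.sends sd253), reach252, by decide +kernel⟩ (AllP.cons ⟨by decide +kernel, (hU.sends sd257), reach256, by decide +kernel⟩ (AllP.cons ⟨by decide +kernel, (hU.sends sd261), reach260, by decide +kernel⟩ (AllP.cons ⟨by decide +kernel, (hU.sends sd265), reach264, by decide +kernel⟩ (AllP.cons ⟨by decide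 +kernel, (hU.sends sd269), reach268, by decide +kernel⟩ (AllP.cons ⟨by decide +kernel, (hU.sends sd273), reach272, by decide +kernel⟩ (AllP.cons ⟨by decide +kernel, (hU.sends sd277), reach276, by decide +kernel⟩ (AllP.cons ⟨by decide +kernel, (hU.sends sd281), reach280, by decide +kernel⟩ (AllP.cons ⟨by decide +kernel, (hU.sends sd285), reach284, by decide +kernel⟩ (AllP.cons ⟨by decide +kernel, (hU.sends sd289), reach288, by decide +kernel⟩ (AllP.cons ⟨by decide +kernel, (hU.sends sd293), reach292, by decide +kernel⟩ (AllP.cons ⟨by decide +kernel, (hU.sends sd297), reach296, by decide +kernel⟩ (AllP.cons ⟨by decide +kernel, (hU.sends sd301), reach300, by decide +kernel⟩ (AllP.cons ⟨by decide +kernel, (hU.sends sd305), reach304, by decide +kernel⟩ (AllP.cons ⟨by decide +kernel, (hU.sends sd309), reach308, by decide +kernel⟩ (AllP.cons ⟨by decide +kernel, (hU.sends sd313), reach312,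 by decide +kernel⟩ (AllP.cons ⟨by decide +kernel, (hU.sends sd317), reach316, by decide +kernel⟩ (AllP.cons ⟨by decide +kernel, (hU.sends sd321), reach320, by decide +kernel⟩ (AllP.cons ⟨by decide +kernel, (hU.sends sd325), reach324, by decide +kernel⟩ (AllP.cons ⟨by decide +kernel, (hU.sends sd329), reach328, by decide +kernel⟩ (AllP.cons ⟨by decide +kernel, (hU.sends sd333), reach332, by decide +kernel⟩ (AllP.cons ⟨by decide +kernel, (hU.sends sd337), reach336, by decide +kernel⟩ (AllP.cons ⟨by decide +kernel, (hU.sends sd341), reach340, by decide +kernel⟩ (AllP.cons ⟨by decide +kernel, (hU.sends sd345), reach344, by decide +kernel⟩ (AllP.cons ⟨by decide +kernel, (hU.sends sd349), reach348, by decide +kernel⟩ (AllP.cons ⟨by decide +kernel, (hU.sends sd353), reach352, by decide +kernel⟩ (AllP.nil))))))))))))))))))))))))))))))))))))))))))))))))))))))))))))))))))))))))))))))))))))))))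
theorem conj {Γ : Type} [Group Γ] {g : ℕ → Γ} (hp : Pres 6 6 RL g) (ht : gsub 6 g = ⊤)
    {ψ : Γ →* Equiv.Perm ℕ} (hψ : ∀ j < 6, ψ (g j) = fP j) (u : Γ) :
    ∃ s ∈ wsub 6 g SW, ∃ w, w ∈ WL ∧ ∃ x ∈ wsub 6 g BW, u = s * ev (atm 6 g) w * x :=
  Tab.Link.conjs (U := U) (m := 12) (Z := ⊥) (P := fun w => w ∈ WL) (cert.act _ _ hp ψ hψ ht)
    (Tab.Link.of (fun j hj => (hψ j hj).trans (by interval_cases j <;> rfl)) (by decide +kernel))
    (by decide +kernel) (by simp) hX (by decide +kernel) u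

end Cfsg.Agent.Spor.G2080.X
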